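import Mathlib

/-!
# Subgroups of small index in a group of order 126000

The abstract part of the minimal index of `PSU(3, 5)`: simplicity, trivially intersecting Sylow
5-subgroups which are not abelian, and the fact that no involution commutes with a non-central
element of a Sylow 5-subgroup exclude every index below 50.
-/

set_option autoImplicit false

namespace CfsgLib.U35MinIndex

open scoped Pointwise

local instance : Fact (Nat.Prime 5) := ⟨by norm_num⟩

/-- If one Sylow subgroup meets the others trivially, their number is one modulo its order. -/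
theorem card_sylow_mod_of_trivial_meet {G : Type*} [Group G] [Finite G] {p : ℕ} [Fact p.Prime]
    (P : Sylow p G) (hti : ∀ Q : Sylow p G, Q ≠ P → (P : Subgroup G) ⊓ Q = ⊥) :
    Nat.card (P : Subgroup G) ∣ Nat.card (Sylow p G) - 1 := by
  classical
  haveI := Fintype.ofFinite (Sylow p G)
  haveI := Fintype.ofFinite ↥(P : Subgroup G)
  haveI := Fintype.ofFinite (Quotient (MulAction.orbitRel ↥(P : Subgroup G) (Sylow p G)))
  have hB := MulAction.sum_card_fixedBy_eq_card_orbits_mul_card_group ↥(P : Subgroup G) (Sylow p G)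
  have hfix : ∀ g : ↥(P : Subgroup G), g ≠ 1 →
      Fintype.card (MulAction.fixedBy (Sylow p G) g) = 1 := by
    intro g hg
    rw [Fintype.card_eq_one_iff]
    refine ⟨⟨P, Sylow.smul_eq_iff_mem_normalizer.2 (Subgroup.le_normalizer g.2)⟩, fun Q => ?_⟩
    apply Subtype.ext
    by_contra hne
    have hmem : (g : G) ∈ (P : Subgroup G) ⊓ Subgroup.normalizer ((Q.1 : Subgroup G) : Set G) :=
      ⟨g.2, Sylow.smul_eq_iff_mem_normalizer.1 Q.2⟩
    have e := P.2.inf_normalizer_sylow Q.1
    have hmem' : (g : G) ∈ (P : Subgroup G) ⊓ (Q.1 : Subgroup G) := e ▸ hmem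
    rw [hti _ hne, Subgroup.mem_bot] at hmem'
    exact hg (Subtype.ext hmem')
  rw [← Finset.add_sum_erase _ _ (Finset.mem_univ (1 : ↥(P : Subgroup G))),
    Finset.sum_congr rfl (fun g hg => hfix g (Finset.ne_of_mem_erase hg))] at hB
  have h1 : Fintype.card (MulAction.fixedBy (Sylow p G) (1 : ↥(P : Subgroup G))) =
      Fintype.card (Sylow p G) :=
    Fintype.card_congr (Equiv.subtypeUnivEquiv fun Q => by simp)
  rw [h1, Finset.sum_const, Finset.card_erase_of_mem (Finset.mem_univ _), Finset.card_univ,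
    smul_eq_mul, mul_one] at hB
  rw [Nat.card_eq_fintype_card, Nat.card_eq_fintype_card]
  set n := Fintype.card (Sylow p G)
  set s := Fintype.card ↥(P : Subgroup G)
  have hs : 1 ≤ s := Fintype.card_pos
  have hn : 1 ≤ n := Fintype.card_pos
  set o := Fintype.card (Quotient (MulAction.orbitRel ↥(P : Subgroup G) (Sylow p G)))
  refine ⟨o - 1, ?_⟩
  rw [Nat.mul_sub, mul_one, mul_comm s o, ← hB]
  omega

variable {G : Type*} [Group G] [Finite G]

/-- Sylow 5-subgroups meet trivially. -/
def TIFive (G : Type*) [Group G] : Prop :=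
  ∀ Q : Subgroup G, Q ≠ ⊥ → ∀ P P' : Sylow 5 G, Q ≤ P → Q ≤ P' → P = P'

theorem card_sylow_five (hcard : Nat.card G = 126000) (P : Sylow 5 G) :
    Nat.card (P : Subgroup G) = 125 := by
  obtain ⟨n, hn⟩ := P.2.exists_card_eq
  have hdvd : 5 ^ 3 ∣ Nat.card (P : Subgroup G) :=
    P.pow_dvd_card_of_pow_dvd_card (by rw [hcard]; norm_num)
  have h2 : Nat.card (P : Subgroup G) ∣ 126000 := hcard ▸ Subgroup.card_subgroup_dvd_card _
  rw [hn] at hdvd h2 ⊢
  have h3 : 3 ≤ n := (Nat.pow_dvd_pow_iff_le_right (by norm_num)).1 hdvd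
  have h4 : n ≤ 3 := by
    by_contra h
    exact absurd ((pow_dvd_pow 5 (by omega : 4 ≤ n)).trans h2) (by norm_num)
  rw [show n = 3 by omega]; norm_num

variable [IsSimpleGroup G]

theorem eq_top_of_conj_mem {H : Subgroup G} {x : G} (hx : x ≠ 1) (h : ∀ g, g * x * g⁻¹ ∈ H) :
    H = ⊤ := by
  rcases Subgroup.Normal.eq_bot_or_eq_top (Subgroup.normalClosure_normal (s := {x})) with e | e
  · exact absurd ((Subgroup.mem_bot).1 (e ▸ Subgroup.subset_normalClosure rfl)) hx
  · refine eq_top_iff.2 (e ▸ (Subgroup.closure_le _).2 fun y hy => ?_)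
    obtain ⟨a, ha, hay⟩ := Group.mem_conjugatesOfSet_iff.1 hy
    obtain ⟨g, hg⟩ := isConj_iff.1 hay
    rw [Set.mem_singleton_iff] at ha
    exact hg ▸ ha ▸ h g

theorem card_sylows (hcard : Nat.card G = 126000) (hTI : TIFive G)
    (hna : ∀ P : Sylow 5 G, ∃ a ∈ (P : Subgroup G), ∃ b ∈ (P : Subgroup G), a * b ≠ b * a) :
    Nat.card (Sylow 5 G) = 126 := by
  obtain ⟨P⟩ := Sylow.nonempty (p := 5) (G := G)
  have h1 : 125 ∣ Nat.card (Sylow 5 G) - 1 := by
    rw [← card_sylow_five hcard P]
    refine card_sylow_mod_of_trivial_meet P fun Q hQ => ?_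
    by_contra h
    exact hQ (hTI _ h P Q inf_le_left inf_le_right).symm
  have h2 : Nat.card (Sylow 5 G) ∣ 1008 := by
    have hi := (P : Subgroup G).card_mul_index
    rw [card_sylow_five hcard P, hcard] at hi
    rw [show 1008 = (P : Subgroup G).index by omega]
    exact P.card_dvd_index
  have hne : Nat.card (Sylow 5 G) ≠ 1 := fun e => by
    haveI := (Nat.card_eq_one_iff_unique.1 e).1
    rcases Subgroup.Normal.eq_bot_or_eq_top P.normal_of_subsingleton with h | h
    · have := card_sylow_five hcard P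
      rw [h, Subgroup.card_bot] at this
      omega
    · have := card_sylow_five hcard P
      rw [h, Subgroup.card_top, hcard] at this
      omega
  have hle : Nat.card (Sylow 5 G) ≤ 1008 := Nat.le_of_dvd (by norm_num) h2
  have hpos : 0 < Nat.card (Sylow 5 G) := Nat.card_pos
  obtain ⟨c, hc⟩ := h1
  have hc8 : c ≤ 8 := by omega
  have he : Nat.card (Sylow 5 G) = 125 * c + 1 := by omega
  rw [he] at h2 hne ⊢
  interval_cases c <;> omega

/-- No subgroup has index below 50. -/
theorem fifty_le_index (hcard : Nat.card G = 126000) (hTI : TIFive G)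
    (hna : ∀ P : Sylow 5 G, ∃ a ∈ (P : Subgroup G), ∃ b ∈ (P : Subgroup G), a * b ≠ b * a)
    (hkey : ∀ P : Sylow 5 G, ∀ c ∈ (P : Subgroup G), (∃ d ∈ (P : Subgroup G), c * d ≠ d * c) →
      ∀ t, t * t = 1 → t * c = c * t → t = 1)
    (H : Subgroup G) (hH : H ≠ ⊤) : 50 ≤ H.index := by
  classical
  by_contra hlt
  have hk0 : H.index ≠ 0 := Subgroup.index_ne_zero_of_finite
  have hHk : Nat.card H * H.index = 126000 := hcard ▸ H.card_mul_index
  -- intersections with Sylow subgroups are large
  have hD : ∀ P : Sylow 5 G, 125 ≤ Nat.card ↥(H ⊓ (P : Subgroup G)) * H.index := by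
    intro P
    have h1 := (H.subgroupOf (P : Subgroup G)).card_mul_index
    rw [card_sylow_five hcard P] at h1
    have h2 : (H.subgroupOf (P : Subgroup G)).index ≤ H.index := by
      show H.relIndex (P : Subgroup G) ≤ H.index
      rw [← Subgroup.relIndex_top_right]
      exact Subgroup.relIndex_le_of_le_right le_top (by rw [Subgroup.relIndex_top_right]; exact hk0)
    have h3 : Nat.card ↥(H.subgroupOf (P : Subgroup G)) = Nat.card ↥(H ⊓ (P : Subgroup G)) := by
      rw [← Nat.card_congr (Subgroup.subgroupOfEquivOfLe (H := H ⊓ (P : Subgroup G)) inf_le_right).toEquiv,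
        Subgroup.inf_subgroupOf_right]
    rw [h3] at h1
    calc 125 = _ := h1.symm
      _ ≤ _ := Nat.mul_le_mul_left _ h2
  have hDp : ∀ P : Sylow 5 G, ∃ j ≤ 3, Nat.card ↥(H ⊓ (P : Subgroup G)) = 5 ^ j := by
    intro P
    have h := Subgroup.card_dvd_of_le (inf_le_right : H ⊓ (P : Subgroup G) ≤ P)
    rw [card_sylow_five hcard P, show 125 = 5 ^ 3 by norm_num] at h
    exact (Nat.dvd_prime_pow (by norm_num)).1 h
  by_cases hsmall : H.index < 25
  · -- derived subgroups of the Sylow subgroups lie in `H`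
    obtain ⟨P⟩ := Sylow.nonempty (p := 5) (G := G)
    obtain ⟨a, ha, b, hb, hab⟩ := hna P
    refine hH (eq_top_of_conj_mem (x := a * b * a⁻¹ * b⁻¹) (fun e => hab ?_) fun g => ?_)
    · calc a * b = a * b * a⁻¹ * b⁻¹ * (b * a) := by group
        _ = b * a := by rw [e, one_mul]
    set P' : Sylow 5 G := g • P with hP'
    have hmem : ∀ x ∈ (P : Subgroup G), g * x * g⁻¹ ∈ (P' : Subgroup G) := fun x hx =>
      Subgroup.smul_mem_pointwise_smul x (MulAut.conj g) _ hx
    set D := H.subgroupOf (P' : Subgroup G) with hDdef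
    obtain ⟨j, hj, hjc⟩ := hDp P'
    have hcD : Nat.card D = 5 ^ j := by
      rw [← hjc, ← Nat.card_congr (Subgroup.subgroupOfEquivOfLe (H := H ⊓ (P' : Subgroup G)) inf_le_right).toEquiv,
        Subgroup.inf_subgroupOf_right]
    have hj2 : 2 ≤ j := by
      have := hD P'
      rw [hjc] at this
      by_contra hc
      interval_cases j <;> omega
    have hci := D.card_mul_index
    rw [hcD, card_sylow_five hcard P'] at hci
    suffices h : ∀ x y : ↥(P' : Subgroup G), x * y * x⁻¹ * y⁻¹ ∈ D by
      have := h ⟨_, hmem a ha⟩ ⟨_, hmem b hb⟩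
      rw [hDdef, Subgroup.mem_subgroupOf] at this
      simp only [Subgroup.coe_mul, Subgroup.coe_inv] at this
      rwa [show g * a * g⁻¹ * (g * b * g⁻¹) * (g * a * g⁻¹)⁻¹ * (g * b * g⁻¹)⁻¹ =
        g * (a * b * a⁻¹ * b⁻¹) * g⁻¹ by group] at this
    intro x y
    interval_cases j
    · have hi : D.index = 5 := by omega
      have hpg : IsPGroup 5 ↥(P' : Subgroup G) := P'.2
      haveI : Nontrivial ↥(P' : Subgroup G) := by
        rw [← Finite.one_lt_card_iff_nontrivial, card_sylow_five hcard P']; norm_num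
      haveI : D.Normal := Subgroup.normal_of_index_eq_minFac_card
        (by rw [hi, card_sylow_five hcard P']; norm_num)
      haveI : IsCyclic (↥(P' : Subgroup G) ⧸ D) := isCyclic_of_prime_card (p := 5) hi
      letI : CommGroup (↥(P' : Subgroup G) ⧸ D) := IsCyclic.commGroup
      rw [← QuotientGroup.eq_one_iff]
      simp only [QuotientGroup.mk_mul, QuotientGroup.mk_inv]
      rw [mul_comm (QuotientGroup.mk x) (QuotientGroup.mk y), mul_inv_cancel_right, mul_inv_cancel]
    · have hi : D.index = 1 := by omega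
      rw [Subgroup.index_eq_one.1 hi]
      exact Subgroup.mem_top _
  -- the Sylow subgroups of `H` correspond to those of `G`
  obtain ⟨C⟩ := Sylow.nonempty (p := 5) (G := H)
  have hmapP : ∀ X : Sylow 5 H, ∃ P : Sylow 5 G, (X : Subgroup H).map H.subtype ≤ P := fun X =>
    (X.2.map H.subtype).exists_le_sylow
  choose f hf using hmapP
  have hDne : ∀ P : Sylow 5 G, H ⊓ (P : Subgroup G) ≠ ⊥ := fun P e => by
    have := hD P
    rw [e, Subgroup.card_bot] at this
    omega
  have huniq : ∀ (X : Sylow 5 H) (P : Sylow 5 G) (Q : Subgroup G), Q ≠ ⊥ → Q ≤ P →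
      Q ≤ (X : Subgroup H).map H.subtype → f X = P := fun X P Q hQ hQP hQX =>
    hTI Q hQ _ _ (hQX.trans (hf X)) hQP
  have hinj : Function.Injective f := by
    intro X Y e
    have h5 : IsPGroup 5 ↥(((f X : Subgroup G)).subgroupOf H) :=
      (f X).2.comap_of_injective _ H.subtype_injective
    have hX : (X : Subgroup H) ≤ ((f X : Subgroup G)).subgroupOf H :=
      Subgroup.map_le_iff_le_comap.1 (hf X)
    have hY : (Y : Subgroup H) ≤ ((f X : Subgroup G)).subgroupOf H :=
      Subgroup.map_le_iff_le_comap.1 (e ▸ hf Y)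
    exact Sylow.ext ((X.3 h5 hX).symm.trans (Y.3 h5 hY))
  have hsurj : Function.Surjective f := by
    intro P
    have h5 : IsPGroup 5 ↥((H ⊓ (P : Subgroup G)).subgroupOf H) :=
      (P.2.to_le inf_le_right).comap_of_injective _ H.subtype_injective
    obtain ⟨X, hX⟩ := h5.exists_le_sylow
    refine ⟨X, huniq X P _ (hDne P) inf_le_right ?_⟩
    intro x hx
    exact ⟨⟨x, hx.1⟩, hX (Subgroup.mem_subgroupOf.2 hx), rfl⟩
  have hm : Nat.card (Sylow 5 H) = 126 :=
    (Nat.card_congr (Equiv.ofBijective f ⟨hinj, hsurj⟩)).trans (card_sylows hcard hTI hna)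
  -- hence the normaliser in `H` is known
  set N := Subgroup.normalizer ((C : Subgroup H) : Set H) with hN
  have hHN : 126 * Nat.card N = Nat.card H := by
    rw [← hm, C.card_eq_index_normalizer, mul_comm]
    exact N.card_mul_index
  have hkN : H.index * Nat.card N = 1000 := by
    have : 126 * (H.index * Nat.card N) = 126 * 1000 := by
      rw [show 126 * (H.index * Nat.card N) = H.index * (126 * Nat.card N) by ring, hHN,
        mul_comm H.index, hHk]
    omega
  have hk : H.index = 25 ∨ H.index = 40 := by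
    have h1 : H.index ∣ 1000 := ⟨_, hkN.symm⟩
    have h2 : H.index ≤ 49 := by omega
    have h3 : 25 ≤ H.index := by omega
    interval_cases H.index <;> omega
  rcases hk with hk | hk
  · -- index 25
    rw [hk] at hkN hHk hD
    have hNc : Nat.card N = 40 := by omega
    have hHc : Nat.card H = 5040 := by omega
    obtain ⟨P, hP⟩ : ∃ P, P = f C := ⟨_, rfl⟩
    have hCc : Nat.card (C : Subgroup H) = 5 := by
      obtain ⟨n, hn⟩ := C.2.exists_card_eq
      have h1 : 5 ^ 1 ∣ Nat.card (C : Subgroup H) :=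
        C.pow_dvd_card_of_pow_dvd_card (by rw [hHc]; norm_num)
      have h2 : Nat.card (C : Subgroup H) ∣ 5040 := hHc ▸ Subgroup.card_subgroup_dvd_card _
      rw [hn] at h1 h2 ⊢
      have h3 : 1 ≤ n := (Nat.pow_dvd_pow_iff_le_right (by norm_num)).1 h1
      have h4 : n ≤ 1 := by
        by_contra h
        exact absurd ((pow_dvd_pow 5 (by omega : 2 ≤ n)).trans h2) (by norm_num)
      rw [show n = 1 by omega]; norm_num
    have hCD : (C : Subgroup H) = (H ⊓ (P : Subgroup G)).subgroupOf H := by
      refine (C.3 ((P.2.to_le inf_le_right).comap_of_injective _ H.subtype_injective) ?_).symm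
      intro x hx
      exact ⟨x.2, hP ▸ hf C (Subgroup.mem_map_of_mem _ hx)⟩
    have hDc : Nat.card ↥(H ⊓ (P : Subgroup G)) = 5 := by
      refine Eq.trans ?_ hCc
      rw [hCD]
      exact (Nat.card_congr (Subgroup.subgroupOfEquivOfLe inf_le_left).toEquiv).symm
    obtain ⟨⟨c, hc⟩, hc1⟩ : ∃ c : (C : Subgroup H), c ≠ 1 := by
      haveI : Nontrivial (C : Subgroup H) := by rw [← Finite.one_lt_card_iff_nontrivial, hCc]; norm_num
      exact exists_ne 1
    have hcG : (c : G) ≠ 1 := fun e => hc1 (Subtype.ext (Subtype.ext e))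
    have hcP : (c : G) ∈ (P : Subgroup G) := hP ▸ hf C (Subgroup.mem_map_of_mem _ hc)
    have hsurjQ : ∀ g : G, ∃ p ∈ (P : Subgroup G), p⁻¹ * g ∈ H := by
      let q : ↥(P : Subgroup G) ⧸ H.subgroupOf (P : Subgroup G) → G ⧸ H :=
        Quotient.map' Subtype.val fun x y hxy => by
          rw [QuotientGroup.leftRel_apply] at hxy ⊢
          simpa [Subgroup.mem_subgroupOf] using hxy
      have hq : Function.Injective q := by
        rintro ⟨x⟩ ⟨y⟩ e
        refine QuotientGroup.eq.2 ?_
        have := QuotientGroup.eq.1 e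
        simpa [Subgroup.mem_subgroupOf] using this
      have hcq : Nat.card (↥(P : Subgroup G) ⧸ H.subgroupOf (P : Subgroup G)) = Nat.card (G ⧸ H) := by
        show (H.subgroupOf (P : Subgroup G)).index = H.index
        rw [hk]
        have h1 := (H.subgroupOf (P : Subgroup G)).card_mul_index
        rw [← Nat.card_congr (Subgroup.subgroupOfEquivOfLe (H := H ⊓ (P : Subgroup G)) inf_le_right).toEquiv] at hDc
        rw [Subgroup.inf_subgroupOf_right] at hDc
        rw [hDc, card_sylow_five hcard P] at h1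
        omega
      have hb := (Nat.bijective_iff_injective_and_card q).2 ⟨hq, hcq⟩
      intro g
      obtain ⟨⟨p⟩, hp⟩ := hb.2 (QuotientGroup.mk g)
      exact ⟨p, p.2, QuotientGroup.eq.1 hp⟩
    obtain ⟨d, hd, hcd⟩ : ∃ d ∈ (P : Subgroup G), (c : G) * d ≠ d * c := by
      by_contra hall
      push Not at hall
      refine hH (eq_top_of_conj_mem hcG fun g => ?_)
      obtain ⟨p, hp, hpg⟩ := hsurjQ g⁻¹
      have e : g * (c : G) * g⁻¹ = (p⁻¹ * g⁻¹)⁻¹ * (p⁻¹ * (c * p)) * (p⁻¹ * g⁻¹) := by group
      rw [e, hall p hp, inv_mul_cancel_left]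
      exact mul_mem (mul_mem (inv_mem hpg) c.2) hpg
    -- an involution centralises `c`
    have hcyc : IsCyclic (C : Subgroup H) := isCyclic_of_prime_card (p := 5) hCc
    set φ := Subgroup.normalizerMonoidHom (C : Subgroup H) with hφ
    have haut : Nat.card (MulAut (C : Subgroup H)) = 4 := by
      rw [IsCyclic.card_mulAut, hCc]
      rfl
    have hker : 10 ∣ Nat.card φ.ker := by
      have h1 := φ.ker.card_mul_index
      rw [Subgroup.index_ker] at h1
      have h2 : Nat.card φ.range ∣ 4 := haut ▸ Subgroup.card_subgroup_dvd_card _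
      have h3 : Nat.card φ.ker * Nat.card φ.range = 40 := by rw [h1]; exact hNc
      have h4 : Nat.card φ.range ≤ 4 := Nat.le_of_dvd (by norm_num) h2
      have h5 : 0 < Nat.card φ.range := Nat.card_pos
      interval_cases h : Nat.card φ.range <;> omega
    obtain ⟨t, ht⟩ := exists_prime_orderOf_dvd_card' (G := φ.ker) 2 (dvd_trans ⟨5, rfl⟩ hker)
    have htc : ((t.1 : N) : H) * c = c * ((t.1 : N) : H) := by
      have := DFunLike.congr_fun (MonoidHom.mem_ker.1 t.2) ⟨c, hc⟩
      have h2 : ((t.1 : N) : H) * c * ((t.1 : N) : H)⁻¹ = c := congrArg Subtype.val this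
      exact mul_inv_eq_iff_eq_mul.1 h2
    have ht2 : t * t = 1 := by rw [← pow_two, ← ht, pow_orderOf_eq_one]
    have := hkey P (c : G) hcP ⟨d, hd, hcd⟩ (((t.1 : N) : H) : G)
      (congrArg (fun x : φ.ker => (((x.1 : N) : H) : G)) ht2)
      (congrArg Subtype.val htc)
    have : t = 1 := Subtype.ext (Subtype.ext (Subtype.ext this))
    rw [this, orderOf_one] at ht
    omega
  · -- index 40
    rw [hk] at hkN hHk
    have hNc : Nat.card N = 25 := by omega
    have hHc : Nat.card H = 3150 := by omega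
    haveI : Fact (Nat.Prime 2) := ⟨Nat.prime_two⟩
    obtain ⟨T⟩ := Sylow.nonempty (p := 2) (G := H)
    have hTc : Nat.card (T : Subgroup H) = 2 := by
      obtain ⟨n, hn⟩ := T.2.exists_card_eq
      have h1 : 2 ^ 1 ∣ Nat.card (T : Subgroup H) :=
        T.pow_dvd_card_of_pow_dvd_card (by rw [hHc]; norm_num)
      have h2 : Nat.card (T : Subgroup H) ∣ 3150 := hHc ▸ Subgroup.card_subgroup_dvd_card _
      rw [hn] at h1 h2 ⊢
      have h3 : 1 ≤ n := (Nat.pow_dvd_pow_iff_le_right (by norm_num)).1 h1
      have h4 : n ≤ 1 := by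
        by_contra h
        exact absurd ((pow_dvd_pow 2 (by omega : 2 ≤ n)).trans h2) (by norm_num)
      rw [show n = 1 by omega]; norm_num
    have hnc : Subgroup.normalizer ((T : Subgroup H) : Set H) ≤
        Subgroup.centralizer ((T : Subgroup H) : Set H) := by
      intro n hn x hx
      obtain ⟨e, he, hall⟩ : ∃ e : (T : Subgroup H), e ≠ 1 ∧ ∀ y, y ≠ 1 → y = e := by
        obtain ⟨a, b, hab, hu⟩ := Nat.card_eq_two_iff.1 hTc
        have h := fun y : (T : Subgroup H) => (Set.ext_iff.1 hu y).2 (Set.mem_univ y)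
        rcases h 1 with h1 | h1
        · refine ⟨b, fun e => hab (h1.symm.trans e.symm), fun y hy => ?_⟩
          rcases h y with hy' | hy'
          · exact absurd (hy'.trans h1.symm) hy
          · exact hy'
        · refine ⟨a, fun e => hab (e.trans h1), fun y hy => ?_⟩
          rcases h y with hy' | hy'
          · exact hy'
          · exact absurd (hy'.trans h1.symm) hy
      rw [SetLike.mem_coe] at hx
      by_cases hx1 : x = 1
      · simp [hx1]
      have hnx : n * x * n⁻¹ ∈ (T : Subgroup H) := (Subgroup.mem_normalizer_iff.1 hn x).1 hx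
      have h1 : (⟨x, hx⟩ : (T : Subgroup H)) = e := hall _ fun h => hx1 (congrArg Subtype.val h)
      have h2 : (⟨n * x * n⁻¹, hnx⟩ : (T : Subgroup H)) = e := hall _ fun h => hx1 (by
        have := congrArg Subtype.val h
        exact conj_eq_one_iff.1 this)
      exact (mul_inv_eq_iff_eq_mul.1 (congrArg Subtype.val (h2.trans h1.symm))).symm
    set K := (MonoidHom.transferSylow T hnc).ker with hK
    have hKT : Nat.card K * 2 = 3150 := by
      rw [← hTc, ← hHc]
      exact (MonoidHom.ker_transferSylow_isComplement' T hnc).card_mul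
    have hCK : (C : Subgroup H) ≤ K := by
      intro x hx
      obtain ⟨n, hn⟩ := C.2 ⟨x, hx⟩
      obtain ⟨m, hm2⟩ := T.2 (MonoidHom.transferSylow T hnc x)
      have h5 : (MonoidHom.transferSylow T hnc x) ^ 5 ^ n = 1 := by
        rw [← map_pow, show x ^ 5 ^ n = 1 from congrArg Subtype.val hn, map_one]
      rw [MonoidHom.mem_ker, ← orderOf_eq_one_iff]
      refine Nat.eq_one_of_dvd_coprimes ?_ (orderOf_dvd_of_pow_eq_one h5) (orderOf_dvd_of_pow_eq_one hm2)
      exact Nat.Coprime.pow _ _ (by norm_num)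
    have hNK : N ≤ K := by
      intro x hx
      have hCN : (C : Subgroup H) = N := by
        refine Subgroup.eq_of_le_of_card_ge Subgroup.le_normalizer ?_
        rw [hNc]
        refine Nat.le_of_dvd Nat.card_pos ?_
        have := C.pow_dvd_card_of_pow_dvd_card (n := 2) (by rw [hHc]; norm_num)
        simpa using this
      exact hCK (hCN ▸ hx)
    have htop : N ⊔ K = ⊤ := by
      obtain ⟨X, hX⟩ : ∃ X : Sylow 5 K, (X : Subgroup K).map K.subtype = (C : Subgroup H) :=
        ⟨C.subtype hCK, by
          rw [Sylow.coe_subtype, Subgroup.map_subgroupOf_eq_of_le hCK]⟩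
      have := Sylow.normalizer_sup_eq_top X (N := K)
      rwa [hX] at this
    rw [sup_eq_right.2 hNK] at htop
    rw [htop, Subgroup.card_top, hHc] at hKT
    omega

end CfsgLib.U35MinIndex
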