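import Cfsg.Agent.Lib.QdFreeU3.Involved
import Cfsg.Agent.Lib.Classical.UnitaryPSU
import Cfsg.Agent.Lib.U35MinIndex.Abstract

/-!
# Unipotent elements of `PSU(3, q)`, `q` odd

A unipotent element `u` with `(u - 1)^2 = 0` commutes with everything fixing the same isotropic
vector, and the others commute with no involution.
-/

set_option autoImplicit false

namespace CfsgLib.U35MinIndex

open Matrix CfsgLib.PSUAut CfsgLib.QdFreeU3
open CfsgLib.UnitarySpec (psuMk)

variable {F : Type*} [Field F] {q : ℕ}

local notation "V3" => Fin 3 → F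
local notation "h3" => Cfsg.hermForm 3 F q
local notation "SU3" => (Cfsg.SU 3 F q)

variable [Fintype F] (hF : Fintype.card F = q ^ 2) {σ : F ≃+* F} (hσ : ∀ a, σ a = a ^ q)

include hF hσ

/-- Quadratic unipotents commute with the elements fixing their vector. -/
lemma commute_of_quadratic {x : V3} (hx : Isot q x) {u w : SU3} (hux : act u x = x)
    (hwx : act w x = x) (hN : ∀ y, act u (act u y - y) = act u y - y) : Commute u w := by
  by_cases hu1 : u = 1
  · rw [hu1]; exact Commute.one_left w
  have hspan : ∀ y, ∃ c : F, act u y = y + c • x := by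
    intro y
    by_cases ha : act u y - y = 0
    · exact ⟨0, by rw [zero_smul, add_zero, ← sub_eq_zero, ha]⟩
    set a := act u y - y with had
    have hy : act u y = y + a := by rw [had]; abel
    have h1 : h3 (act u y) a = h3 y a := by
      have h := act_form u y a
      rwa [show act u a = a from hN y] at h
    rw [hy, hadd_left hF hσ, add_eq_left] at h1
    obtain ⟨c, hc⟩ := fix_unique hF hσ hx ⟨ha, h1⟩ hu1 hux (hN y)
    exact ⟨c, by rw [hy, hc]⟩
  have hperp : ∀ y, h3 y x = 0 → act u y = y := by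
    intro y hy
    obtain ⟨c, hc⟩ := hspan y
    obtain ⟨z, hz⟩ := exists_partner hF hσ hx.1
    obtain ⟨c', hc'⟩ := hspan z
    have h1 := act_form u y z
    rw [hc, hc'] at h1
    simp only [hadd_left hF hσ, hadd_right hF hσ, hsmul_left hF hσ, hsmul_right hF hσ, hy, hx.2,
      hconj hF hσ z x, hz, map_one, mul_zero, add_zero, mul_one] at h1
    rw [hc, show c = 0 by simpa using h1, zero_smul, add_zero]
  show u * w = w * u
  refine act_ext fun y => ?_
  obtain ⟨c, hc⟩ := hspan y
  have hd : h3 (act w y - y) x = 0 := by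
    rw [hsub_left hF hσ]
    conv_lhs => arg 1; rw [← hwx, act_form]
    rw [sub_self]
  have h2 : act u (act w y) = act w y + c • x := by
    conv_lhs => rw [show act w y = (act w y - y) + y by abel, act_add, hperp _ hd, hc]
    abel
  rw [act_mul, act_mul, h2, hc, act_add, act_smul, hwx]

/-- Regular unipotents commute with no involution. -/
lemma eq_one_of_commute_regular (h2 : (2 : F) ≠ 0) {x : V3} (hx : Isot q x) {u s : SU3}
    (hux : act u x = x) {y : V3} (hy : act u (act u y - y) ≠ act u y - y) (hs : s * s = 1)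
    (hsu : s * u = u * s) : s = 1 := by
  have hu1 : u ≠ 1 := fun e => hy (by rw [e]; simp only [act_one])
  have hq := mem_qSU_of_fix hF hσ hx hux
  obtain ⟨p, hp⟩ := exists_partner hF hσ hx.1
  obtain ⟨e0, he0x, -, -, -, hsp⟩ := frame hF hσ hx.2 hp
  have hin : ∀ w, h3 (act u w - w) x = 0 := fun w => by
    rw [hsub_left hF hσ]
    conv_lhs => arg 1; rw [← hux, act_form]
    rw [sub_self]
  set e1 := act u y - y with he1
  have huy : act u y = y + e1 := by rw [he1]; abel
  obtain ⟨α', β', hab⟩ := hsp e1 (hin y)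
  have hβ' : β' ≠ 0 := by
    intro h
    refine hy ?_
    rw [hab, h, zero_smul, add_zero, act_smul, hux]
  have hdec : ∀ w, h3 w x = 0 → ∃ a b : F, w = a • x + b • e1 := by
    intro w hw
    obtain ⟨a, b, rfl⟩ := hsp w hw
    refine ⟨a - b / β' * α', b / β', ?_⟩
    rw [hab, smul_add, smul_smul, smul_smul, div_mul_cancel₀ b hβ', sub_smul]
    abel
  obtain ⟨c, hc⟩ := Submodule.mem_span_singleton.1 (hq.2 e1 (hin y))
  have hc0 : c ≠ 0 := by
    intro h
    rw [h, zero_smul] at hc
    exact hy (sub_eq_zero.1 hc.symm)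
  have hne : ∀ a b : F, a • x + b • e1 = 0 → a = 0 ∧ b = 0 := by
    intro a b hab0
    by_cases hb : b = 0
    · rw [hb, zero_smul, add_zero] at hab0
      exact ⟨(smul_eq_zero.1 hab0).resolve_right hx.1, hb⟩
    exfalso
    refine hy ?_
    have he : e1 = (-(a / b)) • x := by
      have h1 := congrArg (fun v => b⁻¹ • v) hab0
      rw [smul_add, smul_smul, smul_smul, inv_mul_cancel₀ hb, one_smul, smul_zero] at h1
      rw [neg_smul, div_eq_inv_mul, eq_neg_iff_add_eq_zero, add_comm, h1]
    rw [he, act_smul, hux]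
  have hss : ∀ w, act s (act s w) = w := fun w => by rw [← act_mul, hs, act_one]
  have hsu' : ∀ w, act s (act u w) = act u (act s w) := fun w => by rw [← act_mul, hsu, act_mul]
  obtain ⟨a, ha⟩ := fix_unique hF hσ hx (Isot.act s hx) hu1 hux (by rw [← hsu', hux])
  have ha2 : a * a = 1 := by
    have h1 := hss x
    rw [ha, act_smul, ha, smul_smul] at h1
    have : (a * a - 1) • x = 0 := by rw [sub_smul, one_smul, h1, sub_self]
    exact sub_eq_zero.1 ((smul_eq_zero.1 this).resolve_right hx.1)
  have hsa : σ a = a := by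
    rcases mul_self_eq_one_iff.1 ha2 with h | h <;> rw [h] <;> simp
  have hperp' : h3 (act s y - a • y) x = 0 := by
    have h1 := act_form s y x
    rw [ha, hsmul_right hF hσ, hsa] at h1
    rw [hsub_left hF hσ, hsmul_left hF hσ]
    linear_combination a * h1 - h3 (act s y) x * ha2
  obtain ⟨α, β, he⟩ := hdec _ hperp'
  have hsy : act s y = a • y + (α • x + β • e1) := by rw [← he]; abel
  have hue1 : act u e1 = e1 + c • x := by rw [hc]; abel
  have hse1 : act s e1 = a • e1 + (β * c) • x := by
    conv_lhs => rw [he1, act_sub, hsu', hsy, act_add, act_add, act_smul, act_smul, act_smul, hux, hue1, huy]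
    module
  have h0 := hss y
  rw [hsy, act_add, act_add, act_smul, act_smul, act_smul, ha, hse1, hsy] at h0
  have h1 : (2 * a * α + β * β * c) • x + (2 * a * β) • e1 = 0 := by
    linear_combination (norm := module) h0 - congrArg (fun t => t • y) ha2
  obtain ⟨hα, hβ⟩ := hne _ _ h1
  have ha0 : a ≠ 0 := fun h => by rw [h, mul_zero] at ha2; exact zero_ne_one ha2
  have hb0 : β = 0 := (mul_eq_zero.1 hβ).resolve_left (mul_ne_zero h2 ha0)
  rw [hb0, mul_zero, zero_mul, add_zero] at hα
  have hα0 : α = 0 := (mul_eq_zero.1 hα).resolve_left (mul_ne_zero h2 ha0)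
  rw [hα0, hb0, zero_smul, zero_smul, add_zero, add_zero] at hsy
  rw [hb0, zero_mul, zero_smul, add_zero] at hse1
  have hyx : h3 y x ≠ 0 := by
    intro h
    refine hy ?_
    obtain ⟨d, hd⟩ := Submodule.mem_span_singleton.1 (hq.2 y h)
    rw [he1, ← hd, act_smul, hux]
  have hall : ∀ w, act s w = a • w := by
    intro w
    set γ := h3 w x / h3 y x
    obtain ⟨a', b', hw⟩ := hdec (w - γ • y) (by
      rw [hsub_left hF hσ, hsmul_left hF hσ, div_mul_cancel₀ _ hyx, sub_self])
    have : w = γ • y + (a' • x + b' • e1) := by rw [← hw]; abel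
    conv_lhs => rw [this, act_add, act_add, act_smul, act_smul, act_smul, hsy, ha, hse1]
    conv_rhs => rw [this]
    module
  have hmat : (s.1 : Matrix (Fin 3) (Fin 3) F) = a • (1 : Matrix (Fin 3) (Fin 3) F) :=
    Matrix.ext_of_mulVec_single fun i => by
      rw [Matrix.smul_mulVec, Matrix.one_mulVec]
      exact hall _
  have hd : (s.1 : Matrix (Fin 3) (Fin 3) F).det = 1 := s.1.2
  rw [hmat, Matrix.det_smul, Matrix.det_one, mul_one, Fintype.card_fin] at hd
  have ha1 : a = 1 := by linear_combination hd - a * ha2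
  exact act_ext fun w => by rw [hall, ha1, one_smul, act_one]

omit hσ in
/-- Lifts of order a power of 5 are unique. -/
lemma five_lift_unique (hq : q = 5) {s t : SU3} (e : psuMk s = psuMk t)
    (hs : ∃ i, s ^ 5 ^ i = 1) (ht : ∃ i, t ^ 5 ^ i = 1) : s = t := by
  obtain ⟨i, hi⟩ := hs
  obtain ⟨j, hj⟩ := ht
  obtain ⟨z, hz, rfl⟩ := (QuotientGroup.mk'_eq_mk' _).1 e
  have hc : Commute s z := Subgroup.mem_center_iff.1 hz s
  have hz1 : z ^ 5 ^ (i + j) = 1 := by
    have h1 : (s * z) ^ 5 ^ (i + j) = 1 := by rw [add_comm, pow_add, pow_mul, hj, one_pow]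
    rwa [hc.mul_pow, pow_add, pow_mul, hi, one_pow, one_mul, ← pow_add] at h1
  have hz2 : orderOf z ∣ 3 := by
    have h := Subgroup.orderOf_dvd_natCard _ hz
    rwa [CfsgLib.Classical.card_center_su hF (by omega : 2 ≤ 3),
      show Nat.gcd 3 (q + 1) = 3 by subst hq; rfl] at h
  have hcop : Nat.Coprime (5 ^ (i + j)) 3 := Nat.Coprime.pow_left _ (by norm_num)
  rw [orderOf_eq_one_iff.1 (Nat.eq_one_of_dvd_coprimes hcop (orderOf_dvd_of_pow_eq_one hz1) hz2),
    mul_one]

end CfsgLib.U35MinIndex
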