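import Mathlib

/-!
# Matrices over the model `ZMod 5[√2]` of the field with 25 elements

Generators of a subgroup `A₇` of `PSU(3, 5)` satisfying Carmichael's relations, and two non-commuting
elements of order 5 with central commutator.
-/

set_option autoImplicit false
set_option maxRecDepth 100000

namespace CfsgLib.U35MinIndex.Model

/-- The field with 25 elements as `ZMod 5[√2]`. -/
abbrev KTwentyFive : Type := QuadraticAlgebra (ZMod 5) 2 0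

/-- Three by three matrices over the model. -/
abbrev KMat : Type := Matrix (Fin 3) (Fin 3) KTwentyFive

def kX0 : KMat := Matrix.of ![![⟨2, 0⟩, ⟨3, 0⟩, ⟨0, 4⟩], ![⟨2, 0⟩, ⟨3, 0⟩, ⟨0, 1⟩], ![⟨0, 4⟩, ⟨0, 4⟩, ⟨0, 0⟩]]

def kX1 : KMat := Matrix.of ![![⟨4, 0⟩, ⟨0, 0⟩, ⟨0, 0⟩], ![⟨0, 0⟩, ⟨4, 0⟩, ⟨0, 0⟩], ![⟨0, 0⟩, ⟨0, 0⟩, ⟨1, 0⟩]]

def kX2 : KMat := Matrix.of ![![⟨4, 0⟩, ⟨0, 0⟩, ⟨0, 0⟩], ![⟨0, 0⟩, ⟨3, 0⟩, ⟨0, 2⟩], ![⟨0, 0⟩, ⟨0, 3⟩, ⟨2, 0⟩]]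

def kX3 : KMat := Matrix.of ![![⟨2, 0⟩, ⟨0, 2⟩, ⟨0, 0⟩], ![⟨0, 3⟩, ⟨3, 0⟩, ⟨0, 0⟩], ![⟨0, 0⟩, ⟨0, 0⟩, ⟨4, 0⟩]]

def kX4 : KMat := Matrix.of ![![⟨1, 0⟩, ⟨0, 0⟩, ⟨0, 0⟩], ![⟨0, 0⟩, ⟨4, 0⟩, ⟨0, 0⟩], ![⟨0, 0⟩, ⟨0, 0⟩, ⟨4, 0⟩]]

def kA : KMat := Matrix.of ![![⟨2, 2⟩, ⟨0, 2⟩, ⟨4, 2⟩], ![⟨0, 3⟩, ⟨3, 1⟩, ⟨3, 4⟩], ![⟨0, 4⟩, ⟨0, 2⟩, ⟨3, 2⟩]]

def kB : KMat := Matrix.of ![![⟨4, 0⟩, ⟨0, 3⟩, ⟨4, 3⟩], ![⟨0, 1⟩, ⟨2, 0⟩, ⟨4, 1⟩], ![⟨3, 4⟩, ⟨0, 0⟩, ⟨2, 0⟩]]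

/-- Unitary of determinant one. -/
def kGood (A : KMat) : Prop :=
  A.det = 1 ∧ A.transpose * A.map star = 1

/-- The generators. -/
def kX : ℕ → KMat
  | 0 => kX0
  | 1 => kX1
  | 2 => kX2
  | 3 => kX3
  | 4 => kX4
  | _ => 1

/-- The scalar cube root of unity. -/
def kOmega : KTwentyFive := ⟨2, 3⟩

theorem good_gens : ∀ i < 5, kGood (kX i) := by
  unfold kGood; decide +kernel

theorem good_pair : kGood kA ∧ kGood kB := by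
  unfold kGood; decide +kernel

theorem kX_cube : kX 0 ^ 3 = 1 := by
  decide +kernel

theorem kX_sq (i : ℕ) (h : 1 ≤ i) (hi : i < 5) : kX i * kX i = 1 := by
  revert h
  have key : ∀ k : Fin 5, 1 ≤ k.val → kX k.val * kX k.val = 1 := by decide +kernel
  exact key ⟨i, hi⟩

theorem kX_braid (i : ℕ) (hi : i + 1 < 5) : (kX i * kX (i + 1)) ^ 3 = 1 := by
  have key : ∀ k : Fin 4, (kX k.val * kX (k.val + 1)) ^ 3 = 1 := by decide +kernel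
  exact key ⟨i, by omega⟩

theorem kX_far (i j : ℕ) (hij : i + 1 < j) (hj : j < 5) :
    (kX i * kX j) ^ 2 = 1 ∨ (kX i * kX j) ^ 2 = Matrix.diagonal (fun _ => kOmega) := by
  revert hij
  have key : ∀ k l : Fin 5, k.val + 1 < l.val →
      (kX k.val * kX l.val) ^ 2 = 1 ∨
        (kX k.val * kX l.val) ^ 2 = Matrix.diagonal (fun _ => kOmega) := by
    decide +kernel
  intro hij
  exact key ⟨i, by omega⟩ ⟨j, hj⟩ hij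

theorem pair_rels : kA ^ 5 = 1 ∧ kB ^ 5 = 1 ∧
    (kA * kB * kA ^ 4 * kB ^ 4) * kA = kA * (kA * kB * kA ^ 4 * kB ^ 4) ∧
    (kA * kB * kA ^ 4 * kB ^ 4) * kB = kB * (kA * kB * kA ^ 4 * kB ^ 4) ∧
    (kA * kB * kA ^ 4 * kB ^ 4) ^ 5 = 1 := by
  decide +kernel

/-- Certificates that two pairs do not commute. -/
theorem witnesses : (∃ i j : Fin 3, ∃ u : KTwentyFive, ((kA * kB) i j - (kB * kA) i j) * u = 1) ∧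
    (∃ i j : Fin 3, ∃ u : KTwentyFive, ((kX 1 * kX 2) i j - (kX 2 * kX 1) i j) * u = 1) := by
  exact ⟨⟨0, 0, ⟨0, 3⟩, by decide +kernel⟩, ⟨1, 2, ⟨0, 3⟩, by decide +kernel⟩⟩

/-- The commutator of the pair does not commute with a generator. -/
theorem witness_comm : ∃ i j : Fin 3, ∃ u : KTwentyFive,
    ((kA * kB * kA ^ 4 * kB ^ 4 * kX 1) i j - (kX 1 * (kA * kB * kA ^ 4 * kB ^ 4)) i j) * u = 1 :=
  ⟨0, 2, ⟨4, 4⟩, by decide +kernel⟩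

end CfsgLib.U35MinIndex.Model
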