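import Cfsg.Agent.S3335
import Cfsg.Agent.Lib.KnownSimple.Unitary.Basic
import Cfsg.Agent.Lib.U35MinIndex.Borel
import Cfsg.Agent.Lib.U35MinIndex.Model

/-!
# The minimal index of `PSU(3, 5)`
-/

set_option autoImplicit false

namespace CfsgLib.U35MinIndex

open Matrix CfsgLib.PSUAut
open CfsgLib.UnitarySpec (psuMk IsU exists_su)

local instance : Fact (Nat.Prime 5) := ⟨by norm_num⟩

section Group

variable {F : Type*} [Field F] [Fintype F] (hF : Fintype.card F = 25)

include hF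

theorem card_sq : Fintype.card F = 5 ^ 2 := hF

theorem charP_five : CharP F 5 := by
  obtain ⟨p, hp⟩ := CharP.exists F
  obtain ⟨n, hpp, hc⟩ := FiniteField.card F p
  have h : p ∣ 5 ^ 2 := by
    rw [← card_sq hF, hc]
    exact dvd_pow_self p n.pos.ne'
  rwa [(Nat.prime_dvd_prime_iff_eq hpp (by norm_num)).1 (hpp.dvd_of_dvd_pow h)] at hp

theorem two_ne : (2 : F) ≠ 0 := by
  haveI := charP_five hF
  have : ((2 : ℕ) : F) ≠ 0 := fun h => by
    have := (CharP.cast_eq_zero_iff F 5 2).1 h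
    omega
  simpa using this

theorem card_psu_five : Nat.card (Cfsg.PSU 3 F 5) = 126000 := by
  have h := CfsgLib.Classical.card_su (n := 3) (card_sq hF) (by omega)
  rw [Subgroup.card_eq_card_quotient_mul_card_subgroup (Subgroup.center (Cfsg.SU 3 F 5)),
    CfsgLib.Classical.card_center_su (card_sq hF) (by omega : 2 ≤ 3)] at h
  change (5 + 1) * (Nat.card (Cfsg.PSU 3 F 5) * Nat.gcd 3 (5 + 1)) = CfsgLib.Classical.unitaryOrder 5 3 at h
  have he : CfsgLib.Classical.unitaryOrder 5 3 = 2268000 := by decide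
  rw [he, show Nat.gcd 3 (5 + 1) = 3 from rfl] at h
  omega

theorem tiFive : TIFive (Cfsg.PSU 3 F 5) := by
  haveI := charP_five hF
  have hG := card_psu_five hF
  have key : ∀ m, ∀ P P' : Sylow 5 (Cfsg.PSU 3 F 5),
      125 ≤ Nat.card ↥((P : Subgroup (Cfsg.PSU 3 F 5)) ⊓ P') + m →
      (P : Subgroup (Cfsg.PSU 3 F 5)) ⊓ P' ≠ ⊥ → P = P' := by
    intro m
    induction m with
    | zero =>
      intro P P' h _
      have e1 : (P : Subgroup (Cfsg.PSU 3 F 5)) ⊓ P' = P :=
        Subgroup.eq_of_le_of_card_ge inf_le_left (by rw [card_sylow_five hG P]; omega)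
      have e2 : (P : Subgroup (Cfsg.PSU 3 F 5)) ⊓ P' = P' :=
        Subgroup.eq_of_le_of_card_ge inf_le_right (by rw [card_sylow_five hG P']; omega)
      exact Sylow.ext (e1.symm.trans e2)
    | succ m ih =>
      intro P P' hm hne
      set D := (P : Subgroup (Cfsg.PSU 3 F 5)) ⊓ P' with hD
      set N := Subgroup.normalizer (D : Set (Cfsg.PSU 3 F 5)) with hN
      by_contra hPP
      have hD5 : IsPGroup 5 D := P.2.to_le inf_le_left
      let R : Subgroup (Cfsg.PSU 3 F 5) :=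
        { carrier := {x | x ∈ N ∧ ∃ k, x ^ 5 ^ k = 1}
          one_mem' := ⟨one_mem _, 0, one_pow _⟩
          mul_mem' := fun {a b} ha hb => ⟨mul_mem ha.1 hb.1,
            CfsgLib.QdFreeU3.exists_pow_mul (card_sq hF) dvd_rfl D hD5 hne ha.1 hb.1
              ha.2.choose_spec hb.2.choose_spec⟩
          inv_mem' := fun {a} ha => ⟨inv_mem ha.1, ha.2.choose,
            by rw [inv_pow, ha.2.choose_spec, inv_one]⟩ }
      have hR : IsPGroup 5 R := fun x => ⟨x.2.2.choose, Subtype.ext x.2.2.choose_spec⟩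
      obtain ⟨P₃, hP₃⟩ := hR.exists_le_sylow
      have grow : ∀ Q : Sylow 5 (Cfsg.PSU 3 F 5), D < Q → Q = P₃ := by
        intro Q hQ
        haveI : Group.IsNilpotent ↥(Q : Subgroup (Cfsg.PSU 3 F 5)) := Q.2.isNilpotent
        have hlt : D.subgroupOf (Q : Subgroup (Cfsg.PSU 3 F 5)) < ⊤ := by
          rw [lt_top_iff_ne_top, Ne, Subgroup.subgroupOf_eq_top]
          exact not_le_of_gt hQ
        obtain ⟨z, hzn, hzD⟩ := SetLike.exists_of_lt
          (normalizerCondition_of_isNilpotent _ hlt)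
        rw [← Subgroup.subgroupOf_normalizer_eq hQ.le, Subgroup.mem_subgroupOf] at hzn
        rw [Subgroup.mem_subgroupOf] at hzD
        obtain ⟨k, hk⟩ := Q.2 z
        have hz3 : (z : Cfsg.PSU 3 F 5) ∈ (P₃ : Subgroup (Cfsg.PSU 3 F 5)) :=
          hP₃ ⟨hzn, k, congrArg Subtype.val hk⟩
        have hD3 : D ≤ (P₃ : Subgroup (Cfsg.PSU 3 F 5)) := fun d hd => hP₃ ⟨Subgroup.le_normalizer hd,
          (hD5 ⟨d, hd⟩).choose, congrArg Subtype.val (hD5 ⟨d, hd⟩).choose_spec⟩
        have hlt' : D < (Q : Subgroup (Cfsg.PSU 3 F 5)) ⊓ P₃ :=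
          lt_of_le_of_ne (le_inf hQ.le hD3) fun e => hzD (e ▸ ⟨z.2, hz3⟩)
        have hc := Set.ncard_lt_ncard (SetLike.coe_ssubset_coe.2 hlt') (Set.toFinite _)
        rw [← Nat.card_coe_set_eq, ← Nat.card_coe_set_eq] at hc
        simp only [SetLike.coe_sort_coe] at hc
        exact ih Q P₃ (by omega) fun e => hne (le_bot_iff.1 (e ▸ hlt'.le))
      have hneq : ∀ Q Q' : Sylow 5 (Cfsg.PSU 3 F 5), Q ≠ Q' →
          (Q : Subgroup (Cfsg.PSU 3 F 5)) ⊓ Q' < Q := fun Q Q' h =>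
        lt_of_le_of_ne inf_le_left fun e => h (Sylow.ext (Q.3 Q'.2 (e ▸ inf_le_right)).symm)
      refine hPP ((grow P (hneq P P' hPP)).trans (grow P' ?_).symm)
      rw [hD, inf_comm]
      exact hneq P' P (Ne.symm hPP)
  intro Q hQ P P' h1 h2
  refine key 125 P P' (by omega) fun e => hQ (le_bot_iff.1 (e ▸ le_inf h1 h2))

/-- No involution commutes with a non-central element of a Sylow 5-subgroup. -/
theorem key_five (P : Sylow 5 (Cfsg.PSU 3 F 5)) (c : Cfsg.PSU 3 F 5)
    (hc : c ∈ (P : Subgroup (Cfsg.PSU 3 F 5)))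
    (hd : ∃ d ∈ (P : Subgroup (Cfsg.PSU 3 F 5)), c * d ≠ d * c)
    (t : Cfsg.PSU 3 F 5) (ht : t * t = 1) (htc : t * c = c * t) : t = 1 := by
  haveI := charP_five hF
  obtain ⟨σ₀, hσ₀, hinv, -⟩ := CfsgLib.Classical.exists_qPow (card_sq hF)
  let σ : F ≃+* F := RingEquiv.ofBijective σ₀ ⟨σ₀.injective, fun a => ⟨σ₀ a, hinv a⟩⟩
  have hσ : ∀ a, σ a = a ^ 5 := hσ₀
  have hπ : Function.Surjective (psuMk : Cfsg.SU 3 F 5 →* Cfsg.PSU 3 F 5) :=
    QuotientGroup.mk'_surjective _
  obtain ⟨T, hT⟩ := Sylow.mapSurjective_surjective hπ 5 P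
  have hTP : ∀ e ∈ (P : Subgroup (Cfsg.PSU 3 F 5)), ∃ s ∈ (T : Subgroup (Cfsg.SU 3 F 5)),
      psuMk s = e := by
    intro e he
    rw [← hT, Sylow.coe_mapSurjective] at he
    exact he
  obtain ⟨x, hx, hfix⟩ := exists_iso_fixed (card_sq hF) hσ (by omega : 2 ≤ 3) T.2
  obtain ⟨d, hdP, hcd⟩ := hd
  obtain ⟨u, hu, rfl⟩ := hTP c hc
  obtain ⟨w, hw, rfl⟩ := hTP d hdP
  by_cases hN : ∀ y, act u (act u y - y) = act u y - y
  · exact absurd (by rw [← map_mul, ← map_mul,
      (commute_of_quadratic (card_sq hF) hσ hx (hfix u hu) (hfix w hw) hN).eq]) hcd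
  push Not at hN
  obtain ⟨y, hy⟩ := hN
  obtain ⟨s₀, rfl⟩ := hπ t
  have hzc : (s₀ * s₀) ^ 3 = 1 := by
    rw [← map_mul] at ht
    have hz := (QuotientGroup.eq_one_iff _).1 ht
    have h := Subgroup.orderOf_dvd_natCard _ hz
    rw [CfsgLib.Classical.card_center_su (card_sq hF) (by omega : 2 ≤ 3)] at h
    exact orderOf_dvd_iff_pow_eq_one.1 h
  set s := s₀ ^ 3 with hsdef
  have hss : s * s = 1 := by rw [hsdef, ← (Commute.refl s₀).mul_pow, hzc]
  have hps : psuMk s = psuMk s₀ := by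
    rw [hsdef, map_pow, pow_succ, pow_two, ht, one_mul]
  have hu5 : ∃ i, u ^ 5 ^ i = 1 :=
    ⟨(T.2 ⟨u, hu⟩).choose, congrArg Subtype.val (T.2 ⟨u, hu⟩).choose_spec⟩
  have hsu : s * u * s⁻¹ = u := by
    refine five_lift_unique (card_sq hF) rfl ?_ ?_ hu5
    · rw [map_mul, map_mul, map_inv, hps, htc, mul_inv_cancel_right]
    · obtain ⟨i, hi⟩ := hu5
      exact ⟨i, by rw [conj_pow, hi]; group⟩
  have h1 := eq_one_of_commute_regular (card_sq hF) hσ (two_ne hF) hx (hfix u hu) hy hss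
    (mul_inv_eq_iff_eq_mul.1 hsu)
  rw [← hps, h1, map_one]

/-- The homomorphism from the model field. -/
theorem exists_modelHom : ∃ φ : Model.KTwentyFive →+* F, ∀ z, φ (star z) = φ z ^ 5 := by
  haveI := charP_five hF
  letI : Algebra (ZMod 5) F := ZMod.algebra F 5
  have h2 : IsSquare (2 : F) := by
    rw [FiniteField.isSquare_iff (fun h => by
      have := ringChar.eq F 5
      rw [h] at this
      omega) (two_ne hF), hF]
    have : ((4096 : ℕ) : F) = ((1 : ℕ) : F) := (CharP.natCast_eq_natCast F 5).2 (by decide)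
    norm_num at this ⊢
    exact this
  obtain ⟨r, hr⟩ := h2
  have hu : r * r = (2 : ZMod 5) • (1 : F) + (0 : ZMod 5) • r := by
    rw [zero_smul, add_zero, ← Algebra.algebraMap_eq_smul_one, map_ofNat, hr]
  let φ : Model.KTwentyFive →+* F := (QuadraticAlgebra.lift ⟨r, hu⟩).toRingHom
  have hφ : ∀ z : Model.KTwentyFive, φ z = z.re • (1 : F) + z.im • r := fun z => rfl
  refine ⟨φ, fun z => ?_⟩
  have hfr : frobenius F 5 r = -r := by
    have h4 : r ^ 4 = -1 := by
      calc r ^ 4 = (r * r) * (r * r) := by ring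
        _ = ((4 : ℕ) : F) := by rw [← hr]; norm_num
        _ = -1 := by
          have : ((5 : ℕ) : F) = 0 := CharP.cast_eq_zero F 5
          push_cast at this ⊢
          linear_combination this
    show r ^ 5 = -r
    rw [pow_succ, h4, neg_one_mul]
  have hfix : ∀ c : ZMod 5, frobenius F 5 (algebraMap (ZMod 5) F c) = algebraMap (ZMod 5) F c :=
    fun c => by
      show ((frobenius F 5).comp (algebraMap (ZMod 5) F)) c = _
      rw [RingHom.ext_zmod ((frobenius F 5).comp (algebraMap (ZMod 5) F)) (algebraMap (ZMod 5) F)]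
  show _ = frobenius F 5 (φ z)
  simp only [hφ, QuadraticAlgebra.re_star, QuadraticAlgebra.im_star, zero_mul, add_zero, map_add,
    Algebra.smul_def, map_mul, map_one, map_neg, hfr, hfix, mul_neg, neg_mul]

/-- Special unitary matrices from the model. -/
theorem exists_model_su (φ : Model.KTwentyFive →+* F) (hφ : ∀ z, φ (star z) = φ z ^ 5)
    (A : Model.KMat) (hA : Model.kGood A) :
    ∃ g : Cfsg.SU 3 F 5, (g.1 : Matrix (Fin 3) (Fin 3) F) = φ.mapMatrix A := by
  obtain ⟨σ₀, hσ₀, hinv, -⟩ := CfsgLib.Classical.exists_qPow (card_sq hF)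
  let σ : F ≃+* F := RingEquiv.ofBijective σ₀ ⟨σ₀.injective, fun a => ⟨σ₀ a, hinv a⟩⟩
  have hσ : ∀ a, σ a = a ^ 5 := hσ₀
  refine exists_su hσ _ ?_ ?_
  · rw [← RingHom.map_det, hA.1, map_one]
  · show (φ.mapMatrix A)ᵀ * 1 * (φ.mapMatrix A).map σ = 1
    have h1 := congrArg φ.mapMatrix hA.2
    rw [map_mul, map_one] at h1
    rw [Matrix.mul_one]
    refine Eq.trans ?_ h1
    congr 1
    ext i j
    show σ (φ (A i j)) = φ (star (A i j))
    rw [hσ, hφ]

end Group

section Main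

variable {F : Type*} [Field F] [Fintype F] (hF : Fintype.card F = 25)

include hF

theorem psu_five_simple : IsSimpleGroup (Cfsg.PSU 3 F 5) :=
  CfsgLib.Classical.Unitary.isSimpleGroup_PSU (card_sq hF) (by omega) (by omega)

/-- The map from good model matrices to `PSU`, and a test for non-triviality of an image. -/
theorem exists_psu_model :
    ∃ Φ : Model.KMat → Cfsg.PSU 3 F 5,
      (∀ A B, Model.kGood A → Model.kGood B → Φ (A * B) = Φ A * Φ B) ∧
      Φ 1 = 1 ∧ Φ (Matrix.diagonal fun _ => Model.kOmega) = 1 ∧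
      (∀ A B, Model.kGood A → Model.kGood B →
        (∃ i j : Fin 3, ∃ u, ((A * B) i j - (B * A) i j) * u = 1) → Φ A ≠ 1) := by
  obtain ⟨φ, hφ⟩ := exists_modelHom hF
  classical
  have hgood_mul : ∀ A B, Model.kGood A → Model.kGood B → Model.kGood (A * B) := by
    intro A B hA hB
    refine ⟨by rw [Matrix.det_mul, hA.1, hB.1, one_mul], ?_⟩
    have hm : (A * B).map star = A.map star * B.map star :=
      Matrix.map_mul (f := (starRingEnd Model.KTwentyFive))
    rw [Matrix.transpose_mul, hm, Matrix.mul_assoc, ← Matrix.mul_assoc A.transpose, hA.2,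
      Matrix.one_mul, hB.2]
  let mk : Model.KMat → Cfsg.SU 3 F 5 := fun A =>
    if h : Model.kGood A then (exists_model_su hF φ hφ A h).choose else 1
  have hmk : ∀ A, Model.kGood A → ((mk A).1 : Matrix (Fin 3) (Fin 3) F) = φ.mapMatrix A := by
    intro A h
    simp only [mk, dif_pos h]
    exact (exists_model_su hF φ hφ A h).choose_spec
  have hsu : ∀ g g' : Cfsg.SU 3 F 5, (g.1 : Matrix (Fin 3) (Fin 3) F) = g'.1 → g = g' :=
    fun g g' e => Subtype.ext (Subtype.ext e)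
  have hmul : ∀ A B, Model.kGood A → Model.kGood B → mk (A * B) = mk A * mk B := fun A B hA hB =>
    hsu _ _ (by
      rw [hmk _ (hgood_mul A B hA hB), map_mul, ← hmk A hA, ← hmk B hB]
      rfl)
  have hscal : ∀ w : Model.KTwentyFive, Model.kGood (Matrix.diagonal fun _ => w) →
      psuMk (mk (Matrix.diagonal fun _ => w)) = 1 := by
    intro w hw
    refine (QuotientGroup.eq_one_iff _).2 (Subgroup.mem_center_iff.2 fun s => hsu _ _ ?_)
    show (s.1 : Matrix (Fin 3) (Fin 3) F) * (mk _).1 = ((mk _).1 : Matrix (Fin 3) (Fin 3) F) * s.1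
    rw [hmk _ hw, show φ.mapMatrix (Matrix.diagonal fun _ => w) = φ w • (1 : Matrix (Fin 3) (Fin 3) F) by
      rw [Matrix.smul_one_eq_diagonal]
      exact Matrix.diagonal_map (map_zero φ)]
    rw [Matrix.mul_smul, Matrix.smul_mul, Matrix.mul_one, Matrix.one_mul]
  have hne : ∀ A B, Model.kGood A → Model.kGood B →
      (∃ i j : Fin 3, ∃ u, ((A * B) i j - (B * A) i j) * u = 1) → psuMk (mk A) ≠ 1 := by
    rintro A B hA hB ⟨i, j, u, hu⟩ e
    have hc := (Subgroup.mem_center_iff.1 ((QuotientGroup.eq_one_iff _).1 e)) (mk B)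
    rw [← hmul B A hB hA, ← hmul A B hA hB] at hc
    have hm := congrArg (fun g : Cfsg.SU 3 F 5 => (g.1 : Matrix (Fin 3) (Fin 3) F) i j) hc
    simp only [hmk _ (hgood_mul B A hB hA), hmk _ (hgood_mul A B hA hB)] at hm
    have := congrArg φ hu
    rw [map_mul, map_sub, map_one, show φ ((A * B) i j) = φ ((B * A) i j) from hm.symm, sub_self,
      zero_mul] at this
    exact zero_ne_one this
  have hone : Model.kGood 1 := by
    refine ⟨Matrix.det_one, ?_⟩
    rw [Matrix.transpose_one, Matrix.one_mul, Matrix.map_one _ (star_zero _) (star_one _)]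
  refine ⟨fun A => psuMk (mk A), fun A B hA hB => by simp only [hmul A B hA hB, map_mul], ?_, ?_,
    hne⟩
  · have := hscal 1 (by rw [Matrix.diagonal_one]; exact hone)
    rwa [Matrix.diagonal_one] at this
  · exact hscal _ (by unfold Model.kGood; decide +kernel)

/-- Sylow 5-subgroups are not abelian. -/
theorem nonabelian_five (P : Sylow 5 (Cfsg.PSU 3 F 5)) :
    ∃ a ∈ (P : Subgroup (Cfsg.PSU 3 F 5)), ∃ b ∈ (P : Subgroup (Cfsg.PSU 3 F 5)), a * b ≠ b * a := by
  haveI := charP_five hF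
  obtain ⟨Φ, hmul, h1, -, hne⟩ := exists_psu_model hF
  obtain ⟨hA, hB⟩ := Model.good_pair
  obtain ⟨ea, eb, eza, ezb, ez⟩ := Model.pair_rels
  have gmul : ∀ A B, Model.kGood A → Model.kGood B → Model.kGood (A * B) := by
    intro A B hA hB
    refine ⟨by rw [Matrix.det_mul, hA.1, hB.1, one_mul], ?_⟩
    have hm : (A * B).map star = A.map star * B.map star :=
      Matrix.map_mul (f := (starRingEnd Model.KTwentyFive))
    rw [Matrix.transpose_mul, hm, Matrix.mul_assoc, ← Matrix.mul_assoc A.transpose, hA.2,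
      Matrix.one_mul, hB.2]
  have gpow : ∀ A, Model.kGood A → ∀ k, Model.kGood (A ^ (k + 1)) := by
    intro A hA k
    induction k with
    | zero => simpa using hA
    | succ k ih => rw [pow_succ]; exact gmul _ _ ih hA
  have Φpow : ∀ A, Model.kGood A → ∀ k, Φ (A ^ (k + 1)) = Φ A ^ (k + 1) := by
    intro A hA k
    induction k with
    | zero => simp
    | succ k ih => rw [pow_succ, hmul _ _ (gpow A hA k) hA, ih, ← pow_succ]
  set a := Φ Model.kA
  set b := Φ Model.kB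
  have a5 : a ^ 5 = 1 := by rw [← Φpow _ hA 4, ea, h1]
  have b5 : b ^ 5 = 1 := by rw [← Φpow _ hB 4, eb, h1]
  have hgA4 := gpow _ hA 3
  have hgB4 := gpow _ hB 3
  have hgz := gmul _ _ (gmul _ _ (gmul _ _ hA hB) hgA4) hgB4
  obtain ⟨z, hzdef⟩ : ∃ z, z = Φ (Model.kA * Model.kB * Model.kA ^ 4 * Model.kB ^ 4) := ⟨_, rfl⟩
  have hza : z * a = a * z := by rw [hzdef, ← hmul _ _ hgz hA, eza, hmul _ _ hA hgz]
  have hzb : z * b = b * z := by rw [hzdef, ← hmul _ _ hgz hB, ezb, hmul _ _ hB hgz]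
  have hz5 : z ^ 5 = 1 := by rw [hzdef, ← Φpow _ hgz 4, ez, h1]
  have hzab : z = a * b * a ^ 4 * b ^ 4 := by
    rw [hzdef, hmul _ _ (gmul _ _ (gmul _ _ hA hB) hgA4) hgB4, hmul _ _ (gmul _ _ hA hB) hgA4,
      hmul _ _ hA hB, Φpow _ hA 3, Φpow _ hB 3]
  have hz1 : z ≠ 1 := hzdef ▸ hne _ (Model.kX 1) hgz (Model.good_gens 1 (by norm_num)) Model.witness_comm
  have hab : a * b ≠ b * a := by
    intro e
    have hc : Commute a b := e
    refine hz1 ?_
    rw [hzab, mul_assoc a b, (hc.symm.pow_right 4).eq, ← mul_assoc, mul_assoc (a * a ^ 4),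
      ← pow_succ', ← pow_succ', a5, b5, one_mul]
  have hQ : IsPGroup 5 ↥(Subgroup.zpowers z) :=
    IsPGroup.of_card (n := 1) (by
      rw [Nat.card_zpowers, pow_one]
      exact orderOf_eq_prime hz5 hz1)
  have hnorm : ∀ g, z * g = g * z → g ∈ Subgroup.normalizer (Subgroup.zpowers z : Set (Cfsg.PSU 3 F 5)) := by
    intro g hg
    refine Subgroup.centralizer_le_normalizer _ ?_
    rw [← SetLike.mem_coe, Subgroup.zpowers_eq_closure, Subgroup.centralizer_closure]
    exact Subgroup.mem_centralizer_singleton_iff.2 hg.symm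
  let R : Subgroup (Cfsg.PSU 3 F 5) :=
    { carrier := {x | x ∈ Subgroup.normalizer (Subgroup.zpowers z : Set (Cfsg.PSU 3 F 5)) ∧ ∃ k, x ^ 5 ^ k = 1}
      one_mem' := ⟨one_mem _, 0, one_pow _⟩
      mul_mem' := fun {x y} hx hy => ⟨mul_mem hx.1 hy.1,
        CfsgLib.QdFreeU3.exists_pow_mul (card_sq hF) dvd_rfl _ hQ (by simpa using hz1) hx.1 hy.1
          hx.2.choose_spec hy.2.choose_spec⟩
      inv_mem' := fun {x} hx => ⟨inv_mem hx.1, hx.2.choose,
        by rw [inv_pow, hx.2.choose_spec, inv_one]⟩ }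
  have hR : IsPGroup 5 R := fun x => ⟨x.2.2.choose, Subtype.ext x.2.2.choose_spec⟩
  obtain ⟨P₀, hP₀⟩ := hR.exists_le_sylow
  have haP : a ∈ (P₀ : Subgroup (Cfsg.PSU 3 F 5)) := hP₀ ⟨hnorm a hza, 1, by rw [pow_one, a5]⟩
  have hbP : b ∈ (P₀ : Subgroup (Cfsg.PSU 3 F 5)) := hP₀ ⟨hnorm b hzb, 1, by rw [pow_one, b5]⟩
  obtain ⟨g, rfl⟩ := MulAction.exists_smul_eq (Cfsg.PSU 3 F 5) P₀ P
  refine ⟨MulAut.conj g a, Subgroup.smul_mem_pointwise_smul a (MulAut.conj g) _ haP,
    MulAut.conj g b, Subgroup.smul_mem_pointwise_smul b (MulAut.conj g) _ hbP, fun e => hab ?_⟩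
  rw [← map_mul, ← map_mul] at e
  exact (MulAut.conj g).injective e

/-- A subgroup `A₇`. -/
theorem exists_card_2520 : ∃ H : Subgroup (Cfsg.PSU 3 F 5), Nat.card H = 2520 := by
  haveI := charP_five hF
  obtain ⟨Φ, hmul, h1, hω, hne⟩ := exists_psu_model hF
  have hg := Model.good_gens
  have gmul : ∀ A B, Model.kGood A → Model.kGood B → Model.kGood (A * B) := by
    intro A B hA hB
    refine ⟨by rw [Matrix.det_mul, hA.1, hB.1, one_mul], ?_⟩
    have hm : (A * B).map star = A.map star * B.map star :=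
      Matrix.map_mul (f := (starRingEnd Model.KTwentyFive))
    rw [Matrix.transpose_mul, hm, Matrix.mul_assoc, ← Matrix.mul_assoc A.transpose, hA.2,
      Matrix.one_mul, hB.2]
  have hpow2 : ∀ A, Model.kGood A → Φ (A ^ 2) = Φ A ^ 2 := fun A hA => by
    rw [pow_two, pow_two, hmul _ _ hA hA]
  have hpow3 : ∀ A, Model.kGood A → Φ (A ^ 3) = Φ A ^ 3 := fun A hA => by
    rw [pow_three', pow_three', hmul _ _ (gmul _ _ hA hA) hA, hmul _ _ hA hA]
  set x : ℕ → Cfsg.PSU 3 F 5 := fun i => Φ (Model.kX i) with hx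
  have hrel : Cfsg.Agent.S3335.Rels x 5 := by
    refine ⟨fun _ => ?_, fun i hi h5 => ?_, fun i hi => ?_, fun i j hij hj => ?_⟩
    · show Φ (Model.kX 0) ^ 3 = 1
      rw [← hpow3 _ (hg 0 (by norm_num)), Model.kX_cube, h1]
    · show Φ (Model.kX i) * Φ (Model.kX i) = 1
      rw [← hmul _ _ (hg i h5) (hg i h5), Model.kX_sq i hi h5, h1]
    · show (Φ (Model.kX i) * Φ (Model.kX (i + 1))) ^ 3 = 1
      rw [← hmul _ _ (hg i (by omega)) (hg (i + 1) hi), ← hpow3 _ (gmul _ _ (hg i (by omega)) (hg (i + 1) hi)),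
        Model.kX_braid i hi, h1]
    · show (Φ (Model.kX i) * Φ (Model.kX j)) ^ 2 = 1
      rw [← hmul _ _ (hg i (by omega)) (hg j hj), ← hpow2 _ (gmul _ _ (hg i (by omega)) (hg j hj))]
      rcases Model.kX_far i j hij hj with e | e <;> rw [e]
      · exact h1
      · exact hω
  set y : ℕ → Cfsg.PSU 3 F 5 × Equiv.Perm (Fin 7) := fun i => (x i, Cfsg.Agent.S3335.gen 5 i) with hy
  have hgr := Cfsg.Agent.S3335.gen_rels 5
  have hyrel : Cfsg.Agent.S3335.Rels y 5 :=
    ⟨fun h => Prod.ext (hrel.cube h) (hgr.cube h), fun i a b => Prod.ext (hrel.sq i a b) (hgr.sq i a b),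
      fun i a => Prod.ext (hrel.braid i a) (hgr.braid i a),
      fun i j a b => Prod.ext (hrel.far i j a b) (hgr.far i j a b)⟩
  obtain ⟨S, hS, hSc⟩ := Cfsg.Agent.S3335.rels_bound y 5 hyrel
  set D := Subgroup.closure (y '' {i | i < 5}) with hD
  have hDc : Nat.card D ≤ 2520 := by
    have h2 : Nat.card D ≤ Nat.card ↥S :=
      Nat.card_le_card_of_injective (fun d : D => (⟨d.1, hS d.1 d.2⟩ : ↥S)) fun u v e =>
        Subtype.ext (congrArg (fun s : ↥S => s.1) e)
    rw [Nat.card_eq_finsetCard] at h2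
    have : Nat.factorial (5 + 2) = 5040 := rfl
    omega
  have hA7 : Nat.card (alternatingGroup (Fin 7)) = 2520 := by
    rw [Nat.card_eq_fintype_card, card_alternatingGroup, Fintype.card_fin]
    rfl
  have hsnd : alternatingGroup (Fin 7) ≤ D.map (MonoidHom.snd _ _) := by
    refine (Cfsg.Agent.S3335.gen_generate 5 (by norm_num)).trans ((Subgroup.closure_le _).2 ?_)
    rintro _ ⟨i, hi, rfl⟩
    exact ⟨y i, Subgroup.subset_closure ⟨i, hi, rfl⟩, rfl⟩
  haveI : Finite D := Finite.of_injective (fun d : D => (⟨d.1, hS d.1 d.2⟩ : ↥S)) fun u v e =>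
        Subtype.ext (congrArg (fun s : ↥S => s.1) e)
  have hin : ∀ d : D, d.1.2 ∈ alternatingGroup (Fin 7) := by
    intro d
    have h : D ≤ (alternatingGroup (Fin 7)).comap (MonoidHom.snd _ _) := by
      refine (Subgroup.closure_le _).2 ?_
      rintro _ ⟨i, hi, rfl⟩
      exact Cfsg.Agent.S3335.gen_even 5 i hi
    exact h d.2
  let sd : D →* alternatingGroup (Fin 7) := ((MonoidHom.snd _ _).comp D.subtype).codRestrict _ hin
  have hsd : Function.Surjective sd := by
    intro π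
    obtain ⟨d, hd, e⟩ := hsnd π.2
    exact ⟨⟨d, hd⟩, Subtype.ext e⟩
  have hbij : Function.Bijective sd :=
    ⟨((Nat.bijective_iff_surjective_and_card sd).2 ⟨hsd, le_antisymm (hA7 ▸ hDc)
      (Nat.card_le_card_of_surjective sd hsd)⟩).1, hsd⟩
  let e := MulEquiv.ofBijective sd hbij
  let ψ : alternatingGroup (Fin 7) →* Cfsg.PSU 3 F 5 :=
    ((MonoidHom.fst _ _).comp D.subtype).comp e.symm.toMonoidHom
  haveI : IsSimpleGroup (alternatingGroup (Fin 7)) := alternatingGroup.isSimpleGroup (by simp)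
  have hψ : Function.Injective ψ := by
    rcases Subgroup.Normal.eq_bot_or_eq_top (MonoidHom.normal_ker ψ) with h | h
    · exact (MonoidHom.ker_eq_bot_iff ψ).1 h
    · exfalso
      obtain ⟨i, j, u, hu⟩ := Model.witnesses.2
      refine hne _ (Model.kX 2) (hg 1 (by norm_num)) (hg 2 (by norm_num)) ⟨i, j, u, hu⟩ ?_
      set d : D := ⟨y 1, Subgroup.subset_closure ⟨1, by norm_num, rfl⟩⟩
      have := MonoidHom.mem_ker.1 (h ▸ Subgroup.mem_top (sd d) : sd d ∈ ψ.ker)
      rwa [show ψ (sd d) = x 1 by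
        show (e.symm (e d)).1.1 = x 1
        rw [MulEquiv.symm_apply_apply]] at this
  exact ⟨ψ.range, (Nat.card_congr (MonoidHom.ofInjective hψ).toEquiv).symm.trans hA7⟩

/-- The statement. -/
theorem min_index_five :
    (∀ H : Subgroup (Cfsg.PSU 3 F 5), H ≠ ⊤ → 50 ≤ H.index) ∧
      ∃ H : Subgroup (Cfsg.PSU 3 F 5), H.index = 50 := by
  haveI := psu_five_simple hF
  refine ⟨fifty_le_index (card_psu_five hF) (tiFive hF) (nonabelian_five hF) (key_five hF), ?_⟩
  obtain ⟨H, hH⟩ := exists_card_2520 hF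
  refine ⟨H, ?_⟩
  have := H.card_mul_index
  rw [hH, card_psu_five hF] at this
  omega

end Main

end CfsgLib.U35MinIndex
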